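import Cfsg.Agent.Lib.Chevalley.G2AltSection.TwoRank
import Cfsg.Agent.Lib.FrobRealize.Quaternion

/-!
No alternating section of degree eight in G₂ in odd characteristic.
-/

set_option autoImplicit false
set_option maxHeartbeats 2000000

namespace CfsgLib.Chevalley.G2AltSection

open G2Inv
open scoped MatrixGroups commutatorElement

variable {F : Type*} [Field F] [Fintype F]

/-- Subgroups of two-dimensional special linear groups map to no elementary abelian group of order sixteen. -/
theorem sl2_no16 (h2 : (2 : F) ≠ 0) (H : Subgroup SL(2, F)) {Q : Type*} [Group Q] (φ : H →* Q)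
    (hφ : Function.Surjective φ) (V : Subgroup Q) (hV : ∀ v ∈ V, v * v = 1) (hVc : Nat.card V = 16) : False := by
  classical
  have : Fact (Nat.Prime 2) := ⟨Nat.prime_two⟩
  let S0 : Sylow 2 (V.comap φ) := default
  let ψ : V.comap φ →* V := φ.subgroupComap V
  have hψ : Function.Surjective ψ := MonoidHom.subgroupComap_surjective_of_surjective φ V hφ
  have : Finite V := Nat.finite_of_card_ne_zero (by omega)
  have hV2 : IsPGroup 2 V := IsPGroup.of_card (n := 4) (by rw [hVc]; norm_num)
  have htop : (S0 : Subgroup (V.comap φ)).map ψ = ⊤ := by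
    have h1 : ((S0.mapSurjective hψ : Sylow 2 V) : Subgroup V) = ⊤ :=
      (S0.mapSurjective hψ).3 (hV2.to_subgroup _) le_top |>.symm
    simpa using h1
  set S : Subgroup (V.comap φ) := (S0 : Subgroup (V.comap φ)) with hSdef
  have hfew : Nat.card {x : S // x ^ 2 = 1} ≤ 2 := by
    let f : {x : S // x ^ 2 = 1} → Bool := fun x => decide ((x : S) = 1)
    refine (Nat.card_le_card_of_injective f fun u v huv => ?_).trans (by simp)
    have hinv : ∀ w : {x : S // x ^ 2 = 1}, (w : S) ≠ 1 → ((((w : S) : V.comap φ) : H) : SL(2, F)) = -1 := by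
      intro w hw
      refine Subtype.ext ((Classical.sl2_involution h2 ((((w : S) : V.comap φ) : H) : SL(2, F)) (fun h => hw ?_) ?_).trans (by simp))
      · exact Subtype.ext (Subtype.ext (Subtype.ext h))
      · have := congrArg (fun z : S => (((z : V.comap φ) : H) : SL(2, F))) w.2
        simpa [pow_two] using this
    by_cases hu : (u : S) = 1 <;> by_cases hv : (v : S) = 1 <;> simp [f, hu, hv] at huv
    · exact Subtype.ext (hu.trans hv.symm)
    · exact Subtype.ext (Subtype.ext (Subtype.ext (Subtype.ext ((hinv u hu).trans (hinv v hv).symm))))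
  let θ : S →* V := ψ.comp S.subtype
  have hθ : Function.Surjective θ := fun v => by
    obtain ⟨s, hs, rfl⟩ := htop.ge (Subgroup.mem_top v)
    exact ⟨⟨s, hs⟩, rfl⟩
  have hsq : ∀ v : V, v * v = 1 := fun v => Subtype.ext (hV v v.2)
  have hsmall : ∀ a b : V, (∀ s : S, θ s ∈ ({1, a, b, a * b} : Finset V)) → False := fun a b h => by
    have h1 : Nat.card V ≤ ({1, a, b, a * b} : Finset V).card := by
      rw [← Nat.card_eq_finsetCard]
      refine Nat.card_le_card_of_injective (fun v => ⟨v, ?_⟩) fun u v h => congrArg Subtype.val h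
      obtain ⟨s, rfl⟩ := hθ v
      exact h s
    have := Finset.card_le_four (a := (1 : V)) (b := a) (c := b) (d := a * b)
    omega
  have hpow : ∀ (a : V) (k : ℕ), a ^ k = 1 ∨ a ^ k = a := fun a k => by
    rcases Nat.even_or_odd k with ⟨l, rfl⟩ | ⟨l, rfl⟩
    · exact Or.inl (by rw [← two_mul, pow_mul, pow_two, hsq, one_pow])
    · exact Or.inr (by rw [pow_succ, pow_mul, pow_two, hsq, one_pow, one_mul])
  rcases CfsgLib.FrobRealize.Quaternion.cyclic_or_quaternion (G := S) S0.2 hfew with hc | ⟨-, n, ⟨e⟩⟩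
  · obtain ⟨g, hg⟩ := IsCyclic.exists_monoid_generator (α := S)
    refine hsmall (θ g) 1 fun s => ?_
    obtain ⟨k, rfl⟩ := Submonoid.mem_powers_iff _ _ |>.1 (hg s)
    rw [map_pow]
    rcases hpow (θ g) k with h | h <;> simp [h]
  · refine hsmall (θ (e.symm (.xa 0))) (θ (e.symm (.a 1))) fun s => ?_
    obtain ⟨u, rfl⟩ := e.symm.surjective s
    have : NeZero (2 * 2 ^ n) := ⟨by positivity⟩
    rcases u with i | i
    · rw [show (QuaternionGroup.a i : QuaternionGroup (2 ^ n)) = .a 1 ^ i.val by
        rw [QuaternionGroup.a_one_pow, ZMod.natCast_zmod_val], map_pow, map_pow]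
      rcases hpow (θ (e.symm (.a 1))) i.val with h | h <;> simp [h]
    · rw [show (QuaternionGroup.xa i : QuaternionGroup (2 ^ n)) = .xa 0 * .a 1 ^ i.val by
        rw [QuaternionGroup.a_one_pow, ZMod.natCast_zmod_val, QuaternionGroup.xa_mul_a, zero_add],
        map_mul, map_mul, map_pow, map_pow]
      rcases hpow (θ (e.symm (.a 1))) i.val with h | h <;> simp [h]

/-- A group with a simple quotient of a large size containing an elementary abelian group of order sixteen. -/
theorem no_big_section (hF : Odd (Fintype.card F)) {Q : Type*} [Group Q] [IsSimpleGroup Q]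
    (hna : ∃ a b : Q, a * b ≠ b * a) (hbig : 5040 < Nat.card Q) (V : Subgroup Q) (hV : ∀ v ∈ V, v * v = 1)
    (hVc : Nat.card V = 16) (H : Subgroup (GG F)) (φ : H →* Q) (hφ : Function.Surjective φ) : False := by
  classical
  induction hn : Nat.card H using Nat.strong_induction_on generalizing H with
  | _ n IH =>
  subst hn
  have : Fact (Nat.Prime 2) := ⟨Nat.prime_two⟩
  have h2 := odd_char hF
  have : Finite Q := Finite.of_surjective φ hφ
  have hmin : ∀ M : Subgroup H, M.map φ = ⊤ → M = ⊤ := by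
    intro M hM
    by_contra hne
    let ι := Subgroup.equivMapOfInjective M H.subtype Subtype.val_injective
    refine IH _ ?_ (M.map H.subtype) ((φ.comp M.subtype).comp ι.symm.toMonoidHom) ?_ rfl
    · rw [← Nat.card_congr ι.toEquiv]
      exact lt_of_le_of_ne M.card_le_card_group fun h => hne (Subgroup.eq_top_of_card_eq M h)
    · intro v
      obtain ⟨m, hm, rfl⟩ := hM.ge (Subgroup.mem_top v)
      exact ⟨ι ⟨m, hm⟩, by simp⟩
  set K := φ.ker with hK
  let P : Sylow 2 K := default
  set PH := (P : Subgroup K).map K.subtype with hPH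
  have hPn : PH.Normal := by
    rw [← Subgroup.normalizer_eq_top_iff]
    refine hmin _ ?_
    have h := congrArg (Subgroup.map φ) (Sylow.normalizer_sup_eq_top P)
    rw [Subgroup.map_sup, Subgroup.map_top_of_surjective φ hφ, (Subgroup.map_eq_bot_iff K).2 le_rfl,
      sup_bot_eq] at h
    exact h
  have htoGG : ∀ (B : Subgroup H), (∀ g ∈ B, g * g = 1) → Nat.card B ≤ 8 := fun B hB => by
    rw [← Subgroup.card_map_of_injective (f := H.subtype) (K := B) H.subtype_injective]
    refine two_rank hF _ ?_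
    rintro g ⟨u, hu, rfl⟩
    rw [← map_mul, hB u hu, map_one]
  by_cases hP1 : PH = ⊥
  · have hodd : ¬ 2 ∣ Nat.card K := by
      intro hd
      refine P.ne_bot_of_dvd_card hd ?_
      exact (Subgroup.map_eq_bot_iff_of_injective _ Subtype.val_injective).1 hP1
    let ψ : V.comap φ →* V := φ.subgroupComap V
    have hψ : Function.Surjective ψ := MonoidHom.subgroupComap_surjective_of_surjective φ V hφ
    let S : Sylow 2 (V.comap φ) := default
    have hV2 : IsPGroup 2 V := IsPGroup.of_card (n := 4) (by rw [hVc]; norm_num)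
    have h1 : ((S.mapSurjective hψ : Sylow 2 V) : Subgroup V) = ⊤ :=
      (S.mapSurjective hψ).3 (hV2.to_subgroup _) le_top |>.symm
    let θ : (S : Subgroup (V.comap φ)) →* V := ψ.comp (S : Subgroup (V.comap φ)).subtype
    have hθs : Function.Surjective θ := fun v => by
      obtain ⟨s, hs, rfl⟩ := (show (S : Subgroup (V.comap φ)).map ψ = ⊤ by simpa using h1).ge (Subgroup.mem_top v)
      exact ⟨⟨s, hs⟩, rfl⟩
    have hθi : Function.Injective θ := by
      refine (injective_iff_map_eq_one θ).2 fun s hs => ?_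
      have hk : (((s : V.comap φ)) : H) ∈ K := by
        rw [hK, MonoidHom.mem_ker]; exact congrArg Subtype.val hs
      obtain ⟨k, hk'⟩ := IsPGroup.iff_orderOf.1 S.2 s
      have h3 : orderOf (((s : V.comap φ)) : H) = 2 ^ k := by rw [Subgroup.orderOf_coe, Subgroup.orderOf_coe, hk']
      have h4 : 2 ^ k ∣ Nat.card K := by
        rw [← h3, ← Subgroup.orderOf_mk (((s : V.comap φ)) : H) hk]
        exact orderOf_dvd_natCard _
      obtain rfl : k = 0 := by
        by_contra hk0
        exact hodd ((dvd_pow_self 2 hk0).trans h4)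
      exact orderOf_eq_one_iff.1 (hk'.trans (pow_zero 2))
    have h8 := htoGG ((S : Subgroup (V.comap φ)).map (V.comap φ).subtype) (by
      rintro g ⟨u, hu, rfl⟩
      have h5 : (⟨u, hu⟩ : (S : Subgroup (V.comap φ))) * ⟨u, hu⟩ = 1 :=
        hθi (by rw [map_mul, map_one]; exact Subtype.ext (hV _ (θ ⟨u, hu⟩).2))
      rw [← map_mul]
      exact (congrArg (fun w : (S : Subgroup (V.comap φ)) => (V.comap φ).subtype (w : V.comap φ)) h5).trans
        (map_one _))
    rw [Subgroup.card_map_of_injective Subtype.val_injective, Nat.card_eq_of_bijective θ ⟨hθi, hθs⟩, hVc] at h8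
    omega
  -- a normal two-subgroup: its central involutions
  let Ω : Subgroup H :=
    { carrier := {x | x ∈ PH ∧ (∀ w ∈ PH, w * x = x * w) ∧ x * x = 1}
      one_mem' := ⟨one_mem _, fun w _ => by simp, one_mul 1⟩
      mul_mem' := by
        rintro a b ⟨ha, hac, ha2⟩ ⟨hb, hbc, hb2⟩
        refine ⟨mul_mem ha hb, fun w hw => by rw [← mul_assoc, hac w hw, mul_assoc, hbc w hw, mul_assoc], ?_⟩
        rw [mul_assoc, ← mul_assoc b a b, hac b hb, mul_assoc a b b, hb2, mul_one, ha2]
      inv_mem' := by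
        rintro a ⟨ha, hac, ha2⟩
        rw [inv_eq_of_mul_eq_one_right ha2]
        exact ⟨ha, hac, ha2⟩ }
  have hΩn : Ω.Normal := ⟨fun x hx g => by
    refine ⟨hPn.conj_mem x hx.1 g, fun w hw => ?_, ?_⟩
    · have h := hx.2.1 (g⁻¹ * w * g) (by simpa using hPn.conj_mem w hw g⁻¹)
      calc w * (g * x * g⁻¹) = g * ((g⁻¹ * w * g) * x) * g⁻¹ := by group
        _ = g * (x * (g⁻¹ * w * g)) * g⁻¹ := by rw [h]
        _ = g * x * g⁻¹ * w := by group
    · calc g * x * g⁻¹ * (g * x * g⁻¹) = g * (x * x) * g⁻¹ := by group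
        _ = 1 := by rw [hx.2.2]; group⟩
  have hPH2 : IsPGroup 2 PH := P.2.map _
  obtain ⟨z0, hz0, hz01⟩ : ∃ x ∈ Ω, x ≠ 1 := by
    have : Nontrivial PH := (Subgroup.nontrivial_iff_ne_bot _).2 hP1
    have hcn := hPH2.center_nontrivial
    have hd : 2 ∣ Nat.card (Subgroup.center PH) := by
      obtain ⟨k, hk, hk'⟩ := (hPH2.to_subgroup (Subgroup.center PH)).nontrivial_iff_card.1 hcn
      rw [hk']; exact dvd_pow_self 2 hk.ne'
    obtain ⟨⟨⟨x, hxP⟩, hxc⟩, hxo⟩ := exists_prime_orderOf_dvd_card' 2 hd
    rw [← Subgroup.orderOf_coe, ← Subgroup.orderOf_coe] at hxo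
    refine ⟨x, ⟨hxP, fun w hw => congrArg Subtype.val (Subgroup.mem_center_iff.1 hxc ⟨w, hw⟩), ?_⟩, ?_⟩
    · rw [← pow_two]; exact hxo ▸ pow_orderOf_eq_one x
    · intro h
      have hxo' : orderOf x = 2 := hxo
      rw [h, orderOf_one] at hxo'
      omega
  have hΩ8 := htoGG Ω fun g hg => hg.2.2
  let X := {x : Ω // x ≠ 1}
  let act : H →* Equiv.Perm X :=
    { toFun := fun g => Equiv.subtypeEquiv (MulAut.conjNormal g).toEquiv (fun x => by simp)
      map_one' := by ext x; simp
      map_mul' := fun g g' => by ext x; simp [mul_assoc] }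
  have hker : act.ker = ⊤ := by
    have hn : (act.ker.map φ).Normal := Subgroup.Normal.map (MonoidHom.normal_ker act) φ hφ
    rcases hn.eq_bot_or_eq_top with h | h
    · exfalso
      have h1 : act.ker ≤ K := (Subgroup.map_eq_bot_iff _).1 h
      have h2' : Nat.card Q ≤ Nat.card act.range := by
        rw [← Subgroup.index_ker, ← Subgroup.card_top (G := Q), ← MonoidHom.range_eq_top.2 hφ,
          ← Subgroup.index_ker]
        exact Nat.le_of_dvd (Nat.pos_of_ne_zero Subgroup.index_ne_zero_of_finite) (Subgroup.index_dvd_of_le h1)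
      have h3 : Nat.card act.range ≤ Nat.card (Equiv.Perm X) := Subgroup.card_le_card_group _
      have := Fintype.ofFinite Ω
      have h4 : Fintype.card X ≤ 7 := by
        rw [Fintype.card_subtype_compl, Fintype.card_subtype_eq, ← Nat.card_eq_fintype_card]
        omega
      rw [Nat.card_perm, Nat.card_eq_fintype_card (α := X)] at h3
      have := Nat.factorial_le h4
      norm_num [Nat.factorial] at this
      omega
    · exact hmin _ h
  have hz0c : ∀ g : H, g * z0 = z0 * g := fun g => by
    have h1 : g ∈ act.ker := hker ▸ Subgroup.mem_top g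
    have h3 := congrArg (fun e : Equiv.Perm X => (((e ⟨⟨z0, hz0⟩, fun h => hz01 (congrArg Subtype.val h)⟩ : X) : Ω) : H))
      (MonoidHom.mem_ker.1 h1)
    simp [act] at h3
    exact mul_inv_eq_iff_eq_mul.1 h3
  have hzH2 : (z0 : GG F) * (z0 : GG F) = 1 := by rw [← Subgroup.coe_mul, hz0.2.2, Subgroup.coe_one]
  obtain ⟨c, hc⟩ := isConj_iff.1 (isConj_z hF hzH2 (fun h => hz01 (Subtype.ext h))).symm
  let χ : H →* GG F := (MulAut.conj c).toMonoidHom.comp H.subtype
  have hχi : Function.Injective χ := (MulAut.conj c).injective.comp Subtype.val_injective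
  have hperf : commutator H = ⊤ := by
    refine hmin _ ?_
    rw [commutator_def, Subgroup.map_commutator, Subgroup.map_top_of_surjective φ hφ]
    rcases (inferInstance : (⁅(⊤ : Subgroup Q), (⊤ : Subgroup Q)⁆ : Subgroup Q).Normal).eq_bot_or_eq_top with h | h
    · obtain ⟨a, b, hab⟩ := hna
      exact absurd (Subgroup.commutator_eq_bot_iff_le_centralizer.1 h (Subgroup.mem_top a) b (Subgroup.mem_top b)).symm hab
    · exact h
  have hχK' : ∀ g : H, χ g ∈ (G2Inv.K : Subgroup (GG F)) := fun g => by
    rw [← centralizer_z h2, Subgroup.mem_centralizer_singleton_iff, show z = χ z0 from hc.symm, ← map_mul, hz0c,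
      map_mul]
  have hχL : ∀ g : H, χ g ∈ (L : Subgroup (GG F)) := by
    intro g
    let χ' : H →* (G2Inv.K : Subgroup (GG F)) := χ.codRestrict _ hχK'
    have hidx : (L.subgroupOf (G2Inv.K : Subgroup (GG F))).index = 2 := relIndex_L_K h2
    have hn : (L.subgroupOf (G2Inv.K : Subgroup (GG F))).Normal := Subgroup.normal_of_index_eq_two hidx
    have hle : commutator H ≤ (L.subgroupOf (G2Inv.K : Subgroup (GG F))).comap χ' := by
      refine Subgroup.commutator_le.2 fun a _ b _ => ?_
      rw [Subgroup.mem_comap, map_commutatorElement, commutatorElement_def]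
      simp only [Subgroup.mul_mem_iff_of_index_two hidx, inv_mem_iff]
      tauto
    exact hle (hperf ▸ Subgroup.mem_top g)
  -- pull back to the product of the two copies
  set S12 := (χ.range).comap (pr (F := F))
  let Φ : S12 →* Q := φ.comp ((MonoidHom.ofInjective hχi).symm.toMonoidHom.comp
    ((pr (F := F)).subgroupComap χ.range))
  have hΦ : Function.Surjective Φ := by
    intro v
    obtain ⟨h, rfl⟩ := hφ v
    obtain ⟨x, y, hxy⟩ := mem_L.1 (hχL h)
    have hm : (x, y) ∈ S12 := ⟨h, hxy⟩
    refine ⟨⟨(x, y), hm⟩, congrArg φ ?_⟩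
    rw [MonoidHom.comp_apply, MulEquiv.coe_toMonoidHom, MulEquiv.symm_apply_eq]
    exact Subtype.ext hxy.symm
  let sn : S12 →* SL(2, F) := (MonoidHom.snd _ _).comp S12.subtype
  let fs : S12 →* SL(2, F) := (MonoidHom.fst _ _).comp S12.subtype
  have hn : (sn.ker.map Φ).Normal := Subgroup.Normal.map (MonoidHom.normal_ker sn) Φ hΦ
  have key : ∀ (pj : S12 →* SL(2, F)) (M : Subgroup S12), M.map Φ = ⊤ →
      (∀ m ∈ M, pj m = 1 → m ∈ Φ.ker) → False := by
    intro pj M hM hk
    let pM : M →* SL(2, F) := pj.comp M.subtype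
    have hsur : Function.Surjective (Φ.comp M.subtype) := fun v => by
      obtain ⟨m, hm, rfl⟩ := hM.ge (Subgroup.mem_top v)
      exact ⟨⟨m, hm⟩, rfl⟩
    have hle : pM.rangeRestrict.ker ≤ (Φ.comp M.subtype).ker := by
      rw [MonoidHom.ker_rangeRestrict]
      exact fun m hm => hk m m.2 hm
    let ψ := pM.rangeRestrict.liftOfSurjective pM.rangeRestrict_surjective ⟨Φ.comp M.subtype, hle⟩
    refine sl2_no16 h2 pM.range ψ (fun v => ?_) V hV hVc
    obtain ⟨m, rfl⟩ := hsur v
    exact ⟨pM.rangeRestrict m, MonoidHom.liftOfRightInverse_comp_apply _ _ _ _ m⟩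
  rcases hn.eq_bot_or_eq_top with h | h
  · exact key sn ⊤ (Subgroup.map_top_of_surjective Φ hΦ) fun m _ hm => (Subgroup.map_eq_bot_iff _).1 h hm
  · refine key fs sn.ker h fun m hm hf => ?_
    have : m = 1 := Subtype.ext (Prod.ext hf (MonoidHom.mem_ker.1 hm))
    rw [this]; exact one_mem _

end CfsgLib.Chevalley.G2AltSection
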