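import Cfsg.Agent.Lib.Chevalley.G2OddOrders.Torus
import Cfsg.Agent.Lib.Classical.SL2Tori
import Cfsg.Agent.Lib.Chevalley.G2Inv

/-!
No Frobenius group of order twenty acts inside a G₂ in characteristic other than five.
-/

set_option autoImplicit false
set_option maxRecDepth 20000

namespace CfsgLib.Chevalley.G2AltSection

open Tbl
open CfsgLib.Chevalley.CoxeterTorus
open CfsgLib.KnownB.FieldAut (mapGL mapGL_inj map_group)
open CfsgLib.Chevalley.G2Orders (pow_of_ch tCh_neg torus_inj)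
open scoped MatrixGroups

local notation "T2" => Data.G2.tbl
local notation "hT2" => Data.G2.valid
local notation "hC2" => Data.G2.chkComm

/-- From a five-element acted on as squaring modulo a kernel, one mapped to a power of itself. -/
theorem eigen {H Q : Type*} [Group H] [Finite H] [Group Q] (φ : H →* Q) (P : Subgroup H) (hP : IsPGroup 5 P)
    (hab : ∀ a ∈ P, ∀ b ∈ P, a * b = b * a) {n x : H} (hn : n ∈ Subgroup.normalizer (P : Set H)) (hx : x ∈ P)
    (ho : orderOf (φ x) = 5) (hact : φ n * φ x * (φ n)⁻¹ = φ x ^ 2) :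
    ∃ g h : H, ∃ k C : ℕ, 1 ≤ k ∧ orderOf g = 5 ^ k ∧ C % 5 = 2 ∧ h * g * h⁻¹ = g ^ C := by
  classical
  have : Fact (Nat.Prime 5) := ⟨by norm_num⟩
  obtain ⟨e, he⟩ := IsPGroup.iff_card.1 hP
  have he1 : 1 ≤ e := by
    by_contra h
    obtain rfl : e = 0 := by omega
    rw [pow_zero, Subgroup.card_eq_one] at he
    rw [he, Subgroup.mem_bot] at hx
    rw [hx, map_one, orderOf_one] at ho
    omega
  set j := (orderOf n).factorization 5
  set m := n ^ 5 ^ j with hm
  set N := orderOf m with hN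
  have h5N : ¬ 5 ∣ N := by
    rw [hN, hm, orderOf_pow' n (by positivity), Nat.gcd_eq_right (Nat.ordProj_dvd _ _)]
    exact Nat.not_dvd_ordCompl (by norm_num) (orderOf_pos n).ne'
  have hmP : m ∈ Subgroup.normalizer (P : Set H) := pow_mem hn _
  have hpow2 : ∀ i : ℕ, φ n ^ i * φ x * (φ n ^ i)⁻¹ = φ x ^ 2 ^ i := by
    intro i
    induction i with
    | zero => simp
    | succ i ih =>
      rw [pow_succ', mul_inv_rev]
      calc φ n * φ n ^ i * φ x * ((φ n ^ i)⁻¹ * (φ n)⁻¹)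
          = φ n * (φ n ^ i * φ x * (φ n ^ i)⁻¹) * (φ n)⁻¹ := by group
        _ = _ := by rw [ih, ← _root_.conj_pow, hact, ← pow_mul, ← pow_succ']
  have hmod : ∀ M : ℕ, 2 ^ M % 5 = 2 ^ (M % 4) % 5 := fun M => by
    conv_lhs => rw [← Nat.mod_add_div M 4, pow_add, pow_mul]
    rw [Nat.mul_mod, Nat.pow_mod (2 ^ 4)]
    norm_num
  have h54 : ∀ i : ℕ, 5 ^ i % 4 = 1 := fun i => by rw [Nat.pow_mod]; norm_num
  have hN4 : 4 ∣ N := by
    have h1 : φ n ^ (5 ^ j * N) = 1 := by
      rw [← map_pow, pow_mul, ← hm, hN, pow_orderOf_eq_one, map_one]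
    have h2 := hpow2 (5 ^ j * N)
    rw [h1, one_mul, inv_one, mul_one] at h2
    have h3 : 1 ≡ 2 ^ (5 ^ j * N) [MOD 5] := by
      have h := pow_eq_pow_iff_modEq.1 ((pow_one (φ x)).trans h2)
      rwa [ho] at h
    unfold Nat.ModEq at h3
    rw [hmod, Nat.mul_mod, h54, one_mul, Nat.mod_mod] at h3
    have : N % 4 < 4 := Nat.mod_lt _ (by norm_num)
    interval_cases h : N % 4
    all_goals first
      | exact Nat.dvd_of_mod_eq_zero h
      | norm_num at h3
  set C := 2 ^ 5 ^ (e - 1) with hC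
  have hC5 : C % 5 = 2 := by rw [hC, hmod, h54]; norm_num
  have hC4 : C ^ 4 ≡ 1 [MOD 5 ^ e] := by
    have := Nat.ModEq.pow_totient (Nat.Coprime.pow_right e (show Nat.Coprime 2 5 by norm_num))
    rw [Nat.totient_prime_pow (by norm_num : Nat.Prime 5) (by omega)] at this
    rw [hC, ← pow_mul]
    exact this
  set D := C ^ 3 with hD
  let y : ℕ → P := fun i => ⟨m ^ i * x * (m ^ i)⁻¹,
    (Subgroup.mem_normalizer_iff.1 (pow_mem hmP i) x).1 hx⟩
  let _ : CommGroup P :=
    { (inferInstance : Group P) with mul_comm := fun a b => Subtype.ext (hab a a.2 b b.2) }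
  let F : ℕ → P := fun i => y i ^ (D ^ i * C)
  set g : P := ∏ i ∈ Finset.range N, y i ^ D ^ i with hg
  have hexp : ∀ (z : P) {a b : ℕ}, a ≡ b [MOD 5 ^ e] → z ^ a = z ^ b := fun z a b h =>
    pow_eq_pow_iff_modEq.2 (h.of_dvd (he ▸ orderOf_dvd_natCard z))
  have hFN : F N = F 0 := by
    have hy : y N = y 0 := Subtype.ext (by simp [y, hN, pow_orderOf_eq_one])
    show y N ^ _ = y 0 ^ _
    rw [hy, pow_zero]
    refine hexp _ (Nat.ModEq.mul_right _ ?_)
    obtain ⟨c, hc⟩ := hN4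
    rw [hD, ← pow_mul, hc, show 3 * (4 * c) = 4 * (3 * c) by ring, pow_mul]
    exact (hC4.pow _).trans (by rw [one_pow])
  let cj : P →* H := (MulAut.conj m).toMonoidHom.comp P.subtype
  have hcj : cj g = ((g ^ C : P) : H) := by
    have h1 : ∀ i, cj (y i ^ D ^ i) = ((F (i + 1) : P) : H) := fun i => by
      have h2 : D ^ i ≡ D ^ (i + 1) * C [MOD 5 ^ e] := by
        rw [pow_succ, mul_assoc]
        conv_lhs => rw [← mul_one (D ^ i)]
        refine Nat.ModEq.mul_left _ ?_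
        rw [hD, ← pow_succ]
        exact hC4.symm
      show _ = ((y (i + 1) ^ (D ^ (i + 1) * C) : P) : H)
      rw [← hexp (y (i + 1)) h2, SubgroupClass.coe_pow, map_pow]
      congr 1
      show m * (m ^ i * x * (m ^ i)⁻¹) * m⁻¹ = m ^ (i + 1) * x * (m ^ (i + 1))⁻¹
      rw [pow_succ', mul_inv_rev]
      group
    have h3 : (∏ i ∈ Finset.range N, F (i + 1)) = ∏ i ∈ Finset.range N, F i := by
      have h4 := (Finset.prod_range_succ' F N).symm.trans (Finset.prod_range_succ F N)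
      rw [hFN] at h4
      exact mul_right_cancel h4
    have h5 : g ^ C = ∏ i ∈ Finset.range N, F i := by
      rw [hg, ← Finset.prod_pow]
      exact Finset.prod_congr rfl fun i _ => by rw [← pow_mul]
    rw [h5, ← h3]
    have h6 : ∀ l : ℕ, cj (∏ i ∈ Finset.range l, y i ^ D ^ i) =
        ((∏ i ∈ Finset.range l, F (i + 1) : P) : H) := by
      intro l
      induction l with
      | zero => simp
      | succ l ih => rw [Finset.prod_range_succ, Finset.prod_range_succ, map_mul, ih, h1, Subgroup.coe_mul]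
    exact h6 N
  have hφ : φ (g : H) = φ x ^ N := by
    have h6 : ∀ l : ℕ, φ ((∏ i ∈ Finset.range l, y i ^ D ^ i : P) : H) = φ x ^ l := by
      intro l
      induction l with
      | zero => simp
      | succ l ih =>
        rw [Finset.prod_range_succ, Subgroup.coe_mul, map_mul, ih, SubgroupClass.coe_pow, map_pow,
          pow_succ]
        congr 1
        show φ (m ^ l * x * (m ^ l)⁻¹) ^ D ^ l = φ x
        rw [map_mul, map_mul, map_inv, hm, ← pow_mul, map_pow, hpow2, ← pow_mul]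
        conv_rhs => rw [← pow_one (φ x)]
        rw [pow_eq_pow_iff_modEq, ho]
        rw [pow_mul, ← mul_pow]
        refine (Nat.ModEq.pow l ?_).trans (by rw [one_pow])
        have hCD : D % 5 = 3 := by rw [hD, Nat.pow_mod, hC5]
        show 2 ^ 5 ^ j * D % 5 = 1 % 5
        rw [Nat.mul_mod, hmod, h54, hCD]; norm_num
    exact h6 N
  obtain ⟨k, hk⟩ := IsPGroup.iff_orderOf.1 hP g
  refine ⟨g, m, k, C, ?_, by rw [Subgroup.orderOf_coe]; exact hk, hC5, by rw [← SubgroupClass.coe_pow]; exact hcj⟩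
  by_contra hk0
  obtain rfl : k = 0 := by omega
  rw [pow_zero, orderOf_eq_one_iff] at hk
  rw [hk, Subgroup.coe_one, map_one, eq_comm, ← orderOf_dvd_iff_pow_eq_one, ho] at hφ
  exact h5N hφ

variable {F : Type*} [Field F] [Fintype F] {p : ℕ} [Fact p.Prime] [CharP F p]

theorem five_not_dvd (hp5 : p ≠ 5) : ¬ 5 ∣ Fintype.card F := by
  obtain ⟨a, hpp, ha⟩ := FiniteField.card F p
  rw [ha]
  intro h
  exact hp5 ((Nat.prime_dvd_prime_iff_eq (by norm_num) hpp).1 ((by norm_num : Nat.Prime 5).dvd_of_dvd_pow h)).symm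

include p in
/-- The fusion of a five-element with its powers is through the Weyl group. -/
theorem fusion_five (hp5 : p ≠ 5) {g h : GL (T2).I F} (hg : g ∈ (T2).datum.group F)
    (hh : h ∈ (T2).datum.group F) {k C : ℕ} (hk : 1 ≤ k) (hgo : orderOf g = 5 ^ k) (hC : C % 5 = 2)
    (hcj : h * g * h⁻¹ = g ^ C) : False := by
  classical
  have h5q := five_not_dvd (F := F) hp5
  obtain ⟨E, _, _, L, _, _, ι, j, σ, hσ, hfix, hE, hL⟩ := G2OddOrders.exists_tower (F := F) rfl
  set κ : F →+* L := j.comp ι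
  set m := 5 ^ k with hmdef
  have h5m : 5 ∣ m := dvd_pow_self 5 (by omega)
  have hg'G : mapGL T2 κ g ∈ (T2).datum.group L := map_group κ hT2 ⟨g, hg, rfl⟩
  have hg'o : orderOf (mapGL T2 κ g) = m := (orderOf_injective _ (mapGL_inj κ) g).trans hgo
  obtain ⟨x, hx, f, hf, -⟩ := G2OddOrders.exists_torus_conj (K := L) (m := m)
    (fun h3 => absurd ((Nat.prime_dvd_prime_iff_eq Nat.prime_three (by norm_num : Nat.Prime 5)).1
      (Nat.prime_three.dvd_of_dvd_pow h3)) (by norm_num))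
    hg'G (Odd.pow (by decide)) (Nat.le_of_dvd (by positivity) h5m) hg'o (fun l hl hlm => by
      obtain rfl := (Nat.prime_dvd_prime_iff_eq hl (by norm_num : Nat.Prime 5)).1 (hl.dvd_of_dvd_pow hlm)
      rw [hL]
      have hcop : Nat.Coprime (Fintype.card F) 5 :=
        ((Nat.Prime.coprime_iff_not_dvd (by norm_num)).2 h5q).symm
      have h1 := Nat.ModEq.pow_totient hcop
      rw [Nat.totient_prime (by norm_num)] at h1
      exact ((Nat.modEq_iff_dvd' (Nat.one_le_pow _ _ Fintype.card_pos)).1 h1.symm).trans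
        (Nat.pow_sub_one_dvd_pow_sub_one _ (by norm_num)))
  have hfo : orderOf f = m := by
    rw [← orderOf_injective _ (torus_inj (K := L)), hf]
    exact (MulEquiv.orderOf_eq (MulAut.conj x) _).trans hg'o
  have hdvd : ∀ {n : ℕ}, f ^ n = 1 → n % 5 = 0 := fun h =>
    Nat.mod_eq_zero_of_dvd (h5m.trans (hfo ▸ orderOf_dvd_of_pow_eq_one h))
  set y := x * mapGL T2 κ h * x⁻¹ with hy
  have hrelh : torusHom T2 L (f ^ C) * y = y * torusHom T2 L f := by
    rw [map_pow, hf, _root_.conj_pow, ← map_pow, ← hcj, map_mul, map_mul, map_inv, hy]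
    group
  obtain ⟨-, -, -, -, w, hw, -, -, -, -, -, -, hrel⟩ := decompose hT2 hC2
    (mul_mem (mul_mem hx (map_group κ hT2 ⟨h, hh, rfl⟩)) (inv_mem hx)) hrelh
  set v := w⁻¹ with hv
  have hvW : v ∈ (T2).WP hT2 := inv_mem hw
  have hvrel : ∀ r : Fin (T2).n, tCh T2 f (v r).val = tCh T2 f r.val ^ C := by
    intro r
    have h1 := hrel (v r)
    rw [hv, ← Equiv.Perm.mul_apply, mul_inv_cancel, Equiv.Perm.one_apply, tCh_pow] at h1
    exact h1.symm
  have hC1 : 2 ≤ C := by omega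
  have hcancel : ∀ (c : Lˣ) (n : ℕ), 1 ≤ n → c ^ n = c → c ^ (n - 1) = 1 := fun c n hn h => by
    refine mul_right_cancel (b := c) ?_
    rw [← pow_succ, Nat.sub_add_cancel hn, h, one_mul]
  have hCC : C ^ 2 % 5 = 4 := by rw [Nat.pow_mod, hC]
  rcases G2Orders.twist_cls hvW with h1 | h1 | ⟨e, he, h1⟩
  · have := hdvd (pow_of_ch fun r => hcancel (tCh T2 f r.val) C (by omega) (by
      have h2 := hvrel r
      rw [h1, Equiv.Perm.one_apply] at h2
      exact h2.symm))
    omega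
  · have := hdvd (n := C + 1) (pow_of_ch fun r => by
      have h2 := hvrel r
      rw [h1, tCh_neg] at h2
      rw [pow_succ, ← h2, inv_mul_cancel])
    omega
  · have h2 : ∀ r : Fin (T2).n, tCh T2 f r.val ^ (C ^ 2) =
        (tCh T2 f r.val ^ C) ^ e.1 * tCh T2 f r.val ^ (-e.2) := fun r => by
      have h3 := G2Orders.tCh_of_co (f := f) (u := v (v r)) (s := v r) (r := r) (x := e.1) (y := -e.2)
        fun j => by rw [h1 r j]; ring
      rw [hvrel, hvrel, ← pow_mul, ← pow_two] at h3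
      exact h3
    simp only [List.mem_cons, List.not_mem_nil, or_false] at he
    have hCle : C ≤ C ^ 2 := Nat.le_self_pow (by norm_num) C
    rcases he with rfl | rfl | rfl
    · have := hdvd (pow_of_ch fun r => hcancel (tCh T2 f r.val) (C ^ 2) (by omega) (by
        have h3 := h2 r
        rwa [zpow_zero, one_mul, neg_neg, zpow_one] at h3))
      omega
    · have := hdvd (n := C ^ 2 - C + 1) (pow_of_ch fun r => mul_right_cancel (b := tCh T2 f r.val ^ C) (by
        rw [← pow_add, show C ^ 2 - C + 1 + C = C ^ 2 + 1 by omega, pow_succ, h2 r, zpow_one,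
          zpow_neg_one, inv_mul_cancel_right, one_mul]))
      omega
    · have := hdvd (n := C ^ 2 + C + 1) (pow_of_ch fun r => by
        rw [pow_succ, pow_add, h2 r, zpow_neg_one, zpow_neg_one]
        group)
      omega

include p in
/-- The five-subgroups are abelian. -/
theorem five_comm (hp5 : p ≠ 5) {P : Subgroup (G2Inv.GG F)} (hP : IsPGroup 5 P) :
    ∀ a ∈ P, ∀ b ∈ P, a * b = b * a := by
  classical
  have : Fact (Nat.Prime 5) := ⟨by norm_num⟩
  set q := Fintype.card F with hq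
  have h5q := five_not_dvd (F := F) hp5
  have hq1 : 1 < q := Fintype.one_lt_card
  have hcard : Nat.card (G2Inv.GG F) = q ^ 6 * (q ^ 6 - 1) * (q ^ 2 - 1) := by
    show Nat.card ↥((T2).datum.group F) = _
    rw [Data.G2.datum_eq, Cfsg.Agent.S1059.result hq.symm]
    ring
  obtain ⟨S, hS⟩ := hP.exists_le_sylow
  suffices h : ∀ a ∈ (S : Subgroup (G2Inv.GG F)), ∀ b ∈ (S : Subgroup (G2Inv.GG F)), a * b = b * a from
    fun a ha b hb => h a (hS ha) b (hS hb)
  have h6 : q ^ 6 - 1 = (q ^ 2 - 1) * (q ^ 4 + q ^ 2 + 1) := by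
    zify [Nat.one_le_pow 6 q (by omega), Nat.one_le_pow 2 q (by omega)]
    ring
  have hm5 : q % 5 = 1 ∨ q % 5 = 2 ∨ q % 5 = 3 ∨ q % 5 = 4 := by omega
  have hq2pos : q ≤ q ^ 2 := Nat.le_self_pow (by norm_num) q
  by_cases hq5 : q % 5 = 2 ∨ q % 5 = 3
  · have hq2 : q ^ 2 % 5 = 4 := by rcases hq5 with h | h <;> rw [Nat.pow_mod, h]
    have hq4 : q ^ 4 % 5 = 1 := by rcases hq5 with h | h <;> rw [Nat.pow_mod, h]
    have hn : ¬ 5 ∣ Nat.card (G2Inv.GG F) := by
      rw [hcard, h6]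
      intro h
      have hd : 5 ∣ q ^ 2 - 1 ∨ 5 ∣ q ^ 4 + q ^ 2 + 1 := by
        rcases (by norm_num : Nat.Prime 5).dvd_mul.1 h with h | h
        · rcases (by norm_num : Nat.Prime 5).dvd_mul.1 h with h | h
          · exact absurd ((by norm_num : Nat.Prime 5).dvd_of_dvd_pow h) h5q
          · exact (by norm_num : Nat.Prime 5).dvd_mul.1 h
        · exact Or.inl h
      rcases hd with h | h <;> omega
    have hbot : (S : Subgroup (G2Inv.GG F)) = ⊥ := by
      refine Subgroup.card_eq_one.1 ?_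
      rw [S.card_eq_multiplicity, Nat.factorization_eq_zero_of_not_dvd hn, pow_zero]
    intro a ha b hb
    rw [hbot, Subgroup.mem_bot] at ha hb
    rw [ha, hb]
  have hq2 : q ^ 2 % 5 = 1 := by
    rcases (show q % 5 = 1 ∨ q % 5 = 4 by omega) with h | h <;> rw [Nat.pow_mod, h]
  have hq4 : q ^ 4 % 5 = 1 := by rw [show q ^ 4 = (q ^ 2) ^ 2 by ring, Nat.pow_mod, hq2]
  obtain ⟨em, hem⟩ := Classical.exists_sl2_minus (F := F)
  obtain ⟨ep, hep⟩ := Classical.exists_sl2_plus (F := F) p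
  set j := (q ^ 2 - 1).factorization 5 with hj
  have hj1 : 5 ∣ q ^ 2 - 1 := Nat.dvd_of_mod_eq_zero (by omega)
  have hqq : q ^ 2 - 1 = (q + 1) * (q - 1) := by
    rw [show q ^ 2 - 1 = q ^ 2 - 1 ^ 2 by rw [one_pow], Nat.sq_sub_sq]
  obtain ⟨e, he⟩ : ∃ e : SL(2, F), 5 ^ j ∣ orderOf e := by
    have hle : 5 ^ j ∣ (q + 1) * (q - 1) := hqq ▸ Nat.ordProj_dvd _ _
    rcases (show q % 5 = 1 ∨ q % 5 = 4 by omega) with h | h
    · exact ⟨em, hem ▸ (Nat.Coprime.pow_left j ((Nat.Prime.coprime_iff_not_dvd (by norm_num)).2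
        (fun h' => by omega))).dvd_of_dvd_mul_left hle⟩
    · exact ⟨ep, hep ▸ (Nat.Coprime.pow_left j ((Nat.Prime.coprime_iff_not_dvd (by norm_num)).2
        (fun h' => by omega))).dvd_of_dvd_mul_right hle⟩
  obtain ⟨e5, he5⟩ : ∃ e5 : SL(2, F), orderOf e5 = 5 ^ j :=
    ⟨e ^ (orderOf e / 5 ^ j), orderOf_pow_orderOf_div (orderOf_pos e).ne' he⟩
  let Z := Subgroup.zpowers e5
  let ψ : Z × Z →* G2Inv.GG F := (G2Inv.pr (F := F)).comp (Z.subtype.prodMap Z.subtype)
  have hψ : Function.Injective ψ := by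
    refine (injective_iff_map_eq_one _).2 fun ⟨a, b⟩ h => ?_
    have h' : G2Inv.fa (a : SL(2, F)) = G2Inv.fb ((b : SL(2, F))⁻¹) := by
      rw [map_inv]; exact eq_inv_of_mul_eq_one_left h
    have ha : (a : SL(2, F)) = 1 := by
      rcases G2Inv.fa_central h' with ha | ha
      · exact ha
      · have h1 : orderOf (a : SL(2, F)) ∣ 5 ^ j := he5 ▸ orderOf_dvd_of_mem_zpowers a.2
        have h2 : orderOf (a : SL(2, F)) ∣ 2 := orderOf_dvd_of_pow_eq_one (by rw [ha]; simp)
        have h3 := Nat.dvd_gcd h1 h2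
        rw [Nat.Coprime.gcd_eq_one (Nat.Coprime.pow_left j (by norm_num : Nat.Coprime 5 2))] at h3
        exact orderOf_eq_one_iff.1 (Nat.dvd_one.1 h3)
    rw [ha, map_one, eq_comm, map_eq_one_iff _ G2Inv.fb_injective, inv_eq_one] at h'
    exact Prod.ext (Subtype.ext ha) (Subtype.ext h')
  have hAcard : Nat.card ψ.range = 5 ^ (Nat.card (G2Inv.GG F)).factorization 5 := by
    rw [← Nat.card_congr (MonoidHom.ofInjective hψ).toEquiv, Nat.card_prod, Nat.card_zpowers, he5, ← pow_add,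
      hcard, h6]
    congr 1
    have hq0 : q ^ 2 - 1 ≠ 0 := by omega
    rw [Nat.factorization_mul (Nat.mul_ne_zero (by positivity) (Nat.mul_ne_zero hq0 (by positivity))) hq0,
      Nat.factorization_mul (by positivity) (Nat.mul_ne_zero hq0 (by positivity)),
      Nat.factorization_mul hq0 (by positivity), Finsupp.add_apply, Finsupp.add_apply, Finsupp.add_apply,
      Nat.factorization_eq_zero_of_not_dvd (fun h => h5q ((by norm_num : Nat.Prime 5).dvd_of_dvd_pow h)),
      Nat.factorization_eq_zero_of_not_dvd (fun h : 5 ∣ q ^ 4 + q ^ 2 + 1 => by omega), hj]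
    omega
  set A := Sylow.ofCard ψ.range hAcard with hA
  obtain ⟨c, hc⟩ := MulAction.exists_smul_eq (G2Inv.GG F) A S
  intro a ha b hb
  rw [← hc] at ha hb
  obtain ⟨a', ha', rfl⟩ := Subgroup.mem_map.1 ha
  obtain ⟨b', hb', rfl⟩ := Subgroup.mem_map.1 hb
  obtain ⟨u, rfl⟩ := ha'
  obtain ⟨v, rfl⟩ := hb'
  have hZ : ∀ a b : Z, a * b = b * a := fun a b => by
    obtain ⟨i, hi⟩ := Subgroup.mem_zpowers_iff.1 a.2
    obtain ⟨l, hl⟩ := Subgroup.mem_zpowers_iff.1 b.2
    refine Subtype.ext ?_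
    rw [Subgroup.coe_mul, Subgroup.coe_mul, ← hi, ← hl]
    exact (Commute.zpow_zpow_self e5 i l).eq
  have huv : u * v = v * u := Prod.ext (hZ _ _) (hZ _ _)
  show MulAut.conj c (ψ u) * MulAut.conj c (ψ v) = MulAut.conj c (ψ v) * MulAut.conj c (ψ u)
  rw [← map_mul, ← map_mul, ← map_mul, ← map_mul, huv]

include p in
/-- No alternating section of degree seven. -/
theorem no_seven (hp5 : p ≠ 5) (H : Subgroup (G2Inv.GG F)) {Q : Type*} [Group Q] (φ : H →* Q)
    (hφ : Function.Surjective φ) {σ τ : Q} (hσ : orderOf σ = 5) (hτ : τ * σ * τ⁻¹ = σ ^ 2) : False := by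
  classical
  have : Fact (Nat.Prime 5) := ⟨by norm_num⟩
  obtain ⟨x0, hx0⟩ := hφ σ
  obtain ⟨y, hy⟩ := hφ τ
  set c := orderOf x0 / 5 ^ (orderOf x0).factorization 5
  set x := x0 ^ c with hxdef
  have hc5 : ¬ 5 ∣ c := Nat.not_dvd_ordCompl (by norm_num) (orderOf_pos x0).ne'
  have hxσ : φ x = σ ^ c := by rw [hxdef, map_pow, hx0]
  have ho : orderOf (φ x) = 5 := by
    rw [hxσ, Nat.Coprime.orderOf_pow (by rw [hσ]; exact (Nat.Prime.coprime_iff_not_dvd (by norm_num)).2 hc5), hσ]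
  have hxp : IsPGroup 5 (Subgroup.zpowers x) := by
    refine IsPGroup.of_card (n := (orderOf x0).factorization 5) ?_
    rw [Nat.card_zpowers, hxdef, orderOf_pow' x0 (fun h => hc5 (by rw [h]; exact dvd_zero 5)),
      Nat.gcd_eq_right (Nat.div_dvd_of_dvd (Nat.ordProj_dvd _ _)),
      Nat.div_div_self (Nat.ordProj_dvd _ _) (orderOf_pos x0).ne']
  have hτσ : φ y * φ x * (φ y)⁻¹ = φ x ^ 2 := by
    rw [hxσ, hy, ← _root_.conj_pow, hτ, ← pow_mul, ← pow_mul, mul_comm]
  set M := (Subgroup.zpowers (φ x)).comap φ with hM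
  set N0 := Subgroup.normalizer ((Subgroup.zpowers (φ x) : Subgroup Q) : Set Q)
  have hyN : φ y ∈ N0 := by
    have h1 : (Subgroup.zpowers (φ x)).map (MulAut.conj (φ y)).toMonoidHom ≤ Subgroup.zpowers (φ x) := by
      rw [MonoidHom.map_zpowers, Subgroup.zpowers_le]
      show φ y * φ x * (φ y)⁻¹ ∈ _
      rw [hτσ]
      exact pow_mem (Subgroup.mem_zpowers _) _
    have h2 : (Subgroup.zpowers (φ x)).map (MulAut.conj (φ y)).toMonoidHom = Subgroup.zpowers (φ x) := by
      refine le_antisymm h1 (Subgroup.zpowers_le.2 ?_)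
      rw [MonoidHom.map_zpowers, show (MulAut.conj (φ y)).toMonoidHom (φ x) = φ x ^ 2 from hτσ]
      refine Subgroup.mem_zpowers_iff.2 ⟨3, ?_⟩
      have h5 : φ x ^ 5 = 1 := ho ▸ pow_orderOf_eq_one (φ x)
      rw [show (3 : ℤ) = ((3 : ℕ) : ℤ) from rfl, zpow_natCast, ← pow_mul, pow_succ, h5, one_mul]
    refine Subgroup.mem_normalizer_iff.2 fun z => ⟨fun hz => ?_, fun hz => ?_⟩
    · exact h1 ⟨z, hz, rfl⟩
    · replace hz : φ y * z * (φ y)⁻¹ ∈ Subgroup.zpowers (φ x) := hz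
      rw [← h2] at hz
      obtain ⟨z', hz', hzz⟩ := hz
      rwa [← (MulAut.conj (φ y)).injective hzz]
  set K := N0.comap φ
  have hMK : M ≤ K := Subgroup.comap_mono Subgroup.le_normalizer
  have hMn : (M.subgroupOf K).Normal := by
    refine (Subgroup.normal_subgroupOf_iff_le_normalizer hMK).2 fun z hz => ?_
    refine Subgroup.mem_normalizer_iff.2 fun w => ?_
    show φ w ∈ Subgroup.zpowers (φ x) ↔ φ (z * w * z⁻¹) ∈ Subgroup.zpowers (φ x)
    rw [map_mul, map_mul, map_inv]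
    exact Subgroup.mem_normalizer_iff.1 hz (φ w)
  let xM : M := ⟨x, Subgroup.mem_zpowers _⟩
  have hxK : x ∈ K := hMK xM.2
  have hPx : IsPGroup 5 ((Subgroup.zpowers (⟨x, hxK⟩ : K)).subgroupOf (M.subgroupOf K)) := by
    refine IsPGroup.comap_of_injective ?_ _ Subtype.val_injective
    have := hxp.comap_of_injective K.subtype Subtype.val_injective
    refine this.to_le (Subgroup.zpowers_le.2 ?_)
    exact Subgroup.mem_zpowers x
  obtain ⟨P, hP⟩ := hPx.exists_le_sylow
  have hfr := Sylow.normalizer_sup_eq_top P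
  set PK := (P : Subgroup ↥(M.subgroupOf K)).map (M.subgroupOf K).subtype with hPK
  have hyK : (⟨y, hyN⟩ : K) ∈ Subgroup.normalizer (PK : Set K) ⊔ M.subgroupOf K := by
    rw [hfr]; exact Subgroup.mem_top _
  obtain ⟨n, hn, μ, hμ, e⟩ := Subgroup.mem_sup_of_normal_right.1 hyK
  have hPK5 : IsPGroup 5 PK := P.2.map _
  have hxPK : (⟨x, hxK⟩ : K) ∈ PK :=
    ⟨⟨⟨x, hxK⟩, xM.2⟩, hP (Subgroup.mem_zpowers (⟨x, hxK⟩ : K)), rfl⟩
  have hab : ∀ a ∈ PK, ∀ b ∈ PK, a * b = b * a := by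
    intro a ha b hb
    have hh := five_comm (F := F) hp5 (P := PK.map (H.subtype.comp K.subtype)) (hPK5.map _) _
      (Subgroup.mem_map_of_mem _ ha) _ (Subgroup.mem_map_of_mem _ hb)
    exact Subtype.ext (Subtype.ext hh)
  have hact : φ.comp K.subtype n * φ x * (φ.comp K.subtype n)⁻¹ = φ x ^ 2 := by
    obtain ⟨i, hi⟩ : φ (μ : H) ∈ Subgroup.zpowers (φ x) := hμ
    have h1 : φ y = φ (n : H) * φ x ^ i := by
      rw [show φ x ^ i = φ (μ : H) from hi, ← map_mul]
      exact congrArg φ (congrArg Subtype.val e).symm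
    rw [h1] at hτσ
    rw [← hτσ]
    show φ (n : H) * φ x * (φ (n : H))⁻¹ = _
    group
  obtain ⟨g, h, k, C, hk, hgo, hC, hcj⟩ := eigen (φ.comp K.subtype) PK hPK5 hab hn hxPK ho hact
  refine fusion_five (F := F) hp5 (g := (((g : H) : G2Inv.GG F) : GL (T2).I F))
    (h := (((h : H) : G2Inv.GG F) : GL (T2).I F)) (SetLike.coe_mem _) (SetLike.coe_mem _) hk
    (by rw [Subgroup.orderOf_coe, Subgroup.orderOf_coe, Subgroup.orderOf_coe]; exact hgo) hC ?_
  simpa using congrArg (fun z : K => (((z : H) : G2Inv.GG F) : GL (T2).I F)) hcj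

end CfsgLib.Chevalley.G2AltSection
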