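import Cfsg.Agent.Lib.Chevalley.G2InvClass
import Cfsg.Agent.Lib.Classical.SL2Fours
import Cfsg.Agent.Lib.Classical.SL2Sylow

/-!
The elementary abelian two-subgroups of G₂ in odd characteristic have order at most eight.
-/

set_option autoImplicit false

namespace CfsgLib.Chevalley.G2AltSection

open G2Inv
open scoped MatrixGroups

variable {F : Type*} [Field F]

local notation "M2" => Matrix (Fin 2) (Fin 2) F

/-- A matrix commuting with two anticommuting square roots of minus one is scalar. -/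
theorem scalar_of_commute (h2 : (2 : F) ≠ 0) {A B M : M2} (hA : A * A = -1) (hB : B * B = -1)
    (htA : A.trace = 0) (htB : B.trace = 0) (hBA : B * A = -(A * B)) (hMA : M * A = A * M)
    (hMB : M * B = B * M) : M = M 0 0 • (1 : M2) := by
  rw [Matrix.trace_fin_two] at htA htB
  have a00 := congrFun (congrFun hA 0) 0
  have b00 := congrFun (congrFun hB 0) 0
  have c00 := congrFun (congrFun hBA 0) 0
  have m00 := congrFun (congrFun hMA 0) 0
  have m01 := congrFun (congrFun hMA 0) 1
  have m10 := congrFun (congrFun hMA 1) 0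
  have n00 := congrFun (congrFun hMB 0) 0
  have n01 := congrFun (congrFun hMB 0) 1
  have n10 := congrFun (congrFun hMB 1) 0
  simp only [Matrix.mul_apply, Fin.sum_univ_two, Matrix.neg_apply, Matrix.one_apply_eq] at a00 b00 c00 m00 m01 m10 n00 n01 n10
  set a := A 0 0
  set b := A 0 1
  set c := A 1 0
  set d := B 0 0
  set e := B 0 1
  set f := B 1 0
  have hA11 : A 1 1 = -a := by linear_combination htA
  have hB11 : B 1 1 = -d := by linear_combination htB
  rw [hA11] at m01 m10
  rw [hB11] at n01 n10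
  set m := M 0 0
  set n := M 0 1
  set o := M 1 0
  set r := M 1 1
  have hs : r = m := by grind
  have hn : n = 0 := by grind
  have ho : o = 0 := by grind
  ext i j
  fin_cases i <;> fin_cases j <;> simp <;> grind

/-- A matrix commuting up to sign with two anticommuting square roots of minus one. -/
theorem anti_cases (h2 : (2 : F) ≠ 0) {A B M : M2} (hA : A * A = -1) (hB : B * B = -1)
    (htA : A.trace = 0) (htB : B.trace = 0) (hBA : B * A = -(A * B))
    (hMA : M * A = A * M ∨ M * A = -(A * M)) (hMB : M * B = B * M ∨ M * B = -(B * M)) :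
    ∃ l : F, M = l • (1 : M2) ∨ M = l • A ∨ M = l • B ∨ M = l • (A * B) := by
  have hsc : ∀ {N : M2}, N * A = A * N → N * B = B * N → N = N 0 0 • (1 : M2) :=
    fun h h' => scalar_of_commute h2 hA hB htA htB hBA h h'
  have hdiv : ∀ {Y : M2} {c : F}, Y * Y = -1 → M * Y = c • (1 : M2) → M = (-c) • Y := fun {Y c} hY h => by
    have := congrArg (· * Y) h
    simp only [mul_assoc, hY, mul_neg, mul_one, smul_mul_assoc, one_mul] at this
    rw [neg_smul, ← this, neg_neg]
  rcases hMA with hMA | hMA <;> rcases hMB with hMB | hMB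
  · exact ⟨_, Or.inl (hsc hMA hMB)⟩
  · refine ⟨_, Or.inr (Or.inl (hdiv hA (hsc ?_ ?_)))⟩
    · rw [hMA, mul_assoc, hMA]
    · rw [mul_assoc, show A * B = -(B * A) by rw [hBA, neg_neg], mul_neg, ← mul_assoc, hMB]
      simp [mul_assoc]
  · refine ⟨_, Or.inr (Or.inr (Or.inl (hdiv hB (hsc ?_ ?_))))⟩
    · rw [mul_assoc, hBA, mul_neg, ← mul_assoc, hMA]
      simp [mul_assoc]
    · rw [hMB, mul_assoc, hMB]
  · have hAB : A * B * (A * B) = -1 := by
      rw [mul_assoc, ← mul_assoc B A B, hBA, neg_mul, mul_assoc A B B, hB]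
      simp [hA]
    refine ⟨_, Or.inr (Or.inr (Or.inr (hdiv hAB (hsc ?_ ?_))))⟩
    · rw [mul_assoc, mul_assoc A B A, hBA, mul_neg, ← mul_assoc A A B, ← mul_assoc A M (A * B),
        show A * M = -(M * A) by rw [hMA, neg_neg], neg_mul, mul_assoc M A (A * B), ← mul_assoc A A B, mul_neg]
    · rw [← mul_assoc B M (A * B), show B * M = -(M * B) by rw [hMB, neg_neg], neg_mul, mul_assoc M B (A * B),
        ← mul_assoc B A B, hBA, neg_mul, mul_neg, neg_neg, mul_assoc M (A * B) B]

theorem pr_eq_pr {x y x' y' : SL(2, F)} (h : fa x * fb y = fa x' * fb y') : x = x' ∨ x = -x' := by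
  have h1 : fa (x'⁻¹ * x) = fb (y' * y⁻¹) := by
    rw [map_mul, map_mul, map_inv, map_inv, inv_mul_eq_iff_eq_mul, ← mul_assoc, ← h, mul_inv_cancel_right]
  rcases fa_central h1 with h2 | h2
  · exact Or.inl (inv_mul_eq_one.1 h2).symm
  · exact Or.inr (by rw [inv_mul_eq_iff_eq_mul] at h2; rw [h2, mul_neg, mul_one])

theorem pr_mul (x y x' y' : SL(2, F)) : fa x * fb y * (fa x' * fb y') = fa (x * x') * fb (y * y') := by
  show pr (x, y) * pr (x', y') = pr (x * x', y * y')
  rw [← map_mul]; rfl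

theorem ne_neg_one (h2 : (2 : F) ≠ 0) {u : SL(2, F)} (hu : u = 1 ∨ u = -1) : u * u ≠ -1 := by
  intro h
  have : (1 : SL(2, F)) = -1 := by rcases hu with rfl | rfl <;> simpa using h
  have := congrArg (fun g : SL(2, F) => g.1 0 0) this
  simp at this
  exact h2 (by linear_combination this)

variable {V : Subgroup (GG F)} (hVL : V ≤ L) (hV : ∀ g ∈ V, g * g = 1)
include hVL hV

theorem V_comm {g g' : GG F} (hg : g ∈ V) (hg' : g' ∈ V) : g * g' = g' * g := by
  have h1 := hV _ (mul_mem hg hg')
  have hi : g⁻¹ = g := inv_eq_of_mul_eq_one_right (hV _ hg)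
  have hi' : g'⁻¹ = g' := inv_eq_of_mul_eq_one_right (hV _ hg')
  rw [← inv_eq_of_mul_eq_one_right h1, mul_inv_rev, hi, hi']

/-- Two elements with the same first entry up to sign differ by a central one. -/
theorem fst_eq (h2 : (2 : F) ≠ 0) {x y x' y' : SL(2, F)} (hg : fa x * fb y ∈ V) (hg' : fa x' * fb y' ∈ V)
    (hx : x * x = -1) (hxx : x' = x ∨ x' = -x) :
    fa x' * fb y' = fa x * fb y ∨ fa x' * fb y' = fa x * fb y * z := by
  have hp := mul_mem hg hg'
  have hi := inv_eq_of_mul_eq_one_right (hV _ hg)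
  have key : fa x * fb y * (fa x' * fb y') = 1 ∨ fa x * fb y * (fa x' * fb y') = z := by
    rcases L_involution h2 (hVL hp) (hV _ hp) with h | h | ⟨x3, y3, hx3, -, h⟩
    · exact Or.inl h
    · exact Or.inr h
    · exfalso
      rw [pr_mul] at h
      have hu : x * x' = 1 ∨ x * x' = -1 := by
        rcases hxx with rfl | rfl
        · exact Or.inr hx
        · exact Or.inl (by rw [mul_neg, hx, neg_neg])
      rcases pr_eq_pr h with e | e
      · exact ne_neg_one h2 hu (by rw [e]; exact hx3)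
      · exact ne_neg_one h2 hu (by rw [e, neg_mul_neg]; exact hx3)
  rcases key with h | h
  · exact Or.inl (by rw [eq_inv_of_mul_eq_one_right h, hi])
  · refine Or.inr ?_
    calc fa x' * fb y' = (fa x * fb y)⁻¹ * (fa x * fb y * (fa x' * fb y')) := (inv_mul_cancel_left _ _).symm
      _ = _ := by rw [h, hi]

/-- Two independent elements have anticommuting first entries. -/
theorem anticomm (h2 : (2 : F) ≠ 0) {x y x' y' : SL(2, F)} (hg : fa x * fb y ∈ V) (hg' : fa x' * fb y' ∈ V)
    (hx : x * x = -1) (hx' : x' * x' = -1) (hne : fa x' * fb y' ≠ fa x * fb y)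
    (hnez : fa x' * fb y' ≠ fa x * fb y * z) : x' * x = -(x * x') := by
  have h := V_comm hVL hV hg' hg
  rw [pr_mul, pr_mul] at h
  refine (pr_eq_pr h).resolve_left fun hc => ?_
  have hi : x⁻¹ = -x := inv_eq_of_mul_eq_one_right (by rw [mul_neg, hx, neg_neg])
  have hsq : (x * x') * (x * x') = 1 := by
    calc x * x' * (x * x') = x * (x' * x) * x' := by group
      _ = (x * x) * (x' * x') := by rw [hc]; group
      _ = 1 := by rw [hx, hx', neg_mul_neg, one_mul]
  have hu := sl2_sq_eq_one h2 hsq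
  rcases fst_eq hVL hV h2 hg hg' hx (by
    rcases hu with e | e
    · exact Or.inr (by rw [← inv_eq_of_mul_eq_one_right e, hi])
    · exact Or.inl (by
        have : x' = x⁻¹ * (-1) := by rw [← e, inv_mul_cancel_left]
        rw [this, hi, neg_mul_neg, mul_one])) with e | e
  · exact hne e
  · exact hnez e

omit V hVL hV in
/-- Commuting elements of the product have entries commuting up to sign. -/
theorem fst_sign {x y x' y' : SL(2, F)} (h : fa x * fb y * (fa x' * fb y') = fa x' * fb y' * (fa x * fb y)) :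
    x.1 * x'.1 = x'.1 * x.1 ∨ x.1 * x'.1 = -(x'.1 * x.1) := by
  rw [pr_mul, pr_mul] at h
  rcases pr_eq_pr h with e | e
  · exact Or.inl (by simpa using congrArg Subtype.val e)
  · exact Or.inr (by simpa using congrArg Subtype.val e)

variable [Fintype F]

/-- The subgroup has at most eight elements, and if more than four two independent ones. -/
theorem card_V (h2 : (2 : F) ≠ 0) : Nat.card V ≤ 8 ∧ (4 < Nat.card V → ∃ x₁ y₁ x₂ y₂ : SL(2, F),
    fa x₁ * fb y₁ ∈ V ∧ fa x₂ * fb y₂ ∈ V ∧ x₁ * x₁ = -1 ∧ x₂ * x₂ = -1 ∧ x₂ * x₁ = -(x₁ * x₂)) := by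
  classical
  have hbd : ∀ s : Finset (GG F), (∀ g ∈ V, g ∈ s) → Nat.card V ≤ s.card := fun s hs => by
    rw [← Nat.card_eq_finsetCard s]
    exact Nat.card_le_card_of_injective (fun g : V => (⟨g, hs g g.2⟩ : s))
      fun u v h => Subtype.ext (congrArg (fun w : s => (w : GG F)) h)
  by_cases hA : ∃ a ∈ V, InA a
  swap
  · have := hbd {1, z} fun g hg => by
      rcases L_involution h2 (hVL hg) (hV _ hg) with h | h | h
      · simp [h]
      · simp [h]
      · exact absurd ⟨g, hg, h⟩ hA
    have h4 : ({1, z} : Finset (GG F)).card ≤ 2 := Finset.card_le_two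
    exact ⟨by omega, fun h => by omega⟩
  obtain ⟨a, haV, x₁, y₁, hx₁, hy₁, rfl⟩ := hA
  set a := fa x₁ * fb y₁
  by_cases hB : ∃ b ∈ V, InA b ∧ b ≠ a ∧ b ≠ a * z
  swap
  · have := hbd {1, z, a, a * z} fun g hg => by
      rcases L_involution h2 (hVL hg) (hV _ hg) with h | h | h
      · simp [h]
      · simp [h]
      · by_contra hn
        simp only [Finset.mem_insert, Finset.mem_singleton, not_or] at hn
        exact hB ⟨g, hg, h, hn.2.2.1, hn.2.2.2⟩
    have h4 : ({1, z, a, a * z} : Finset (GG F)).card ≤ 4 := Finset.card_le_four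
    exact ⟨by omega, fun h => by omega⟩
  obtain ⟨b, hbV, ⟨x₂, y₂, hx₂, hy₂, rfl⟩, hne, hnez⟩ := hB
  set b := fa x₂ * fb y₂
  have hanti := anticomm hVL hV h2 haV hbV hx₁ hx₂ hne hnez
  refine ⟨?_, fun _ => ⟨x₁, y₁, x₂, y₂, haV, hbV, hx₁, hx₂, hanti⟩⟩
  have hab : a * b = fa (x₁ * x₂) * fb (y₁ * y₂) := pr_mul _ _ _ _
  have hx3 : x₁ * x₂ * (x₁ * x₂) = -1 := by
    rw [mul_assoc, ← mul_assoc x₂ x₁ x₂, hanti, neg_mul, mul_assoc x₁ x₂ x₂, hx₂]
    simp [hx₁]
  refine (hbd {1, z, a, a * z, b, b * z, a * b, a * b * z} fun g hg => ?_).trans ?_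
  · rcases L_involution h2 (hVL hg) (hV _ hg) with h | h | ⟨x, y, hx, hy, rfl⟩
    · simp [h]
    · simp [h]
    have hA' : x₁.1 * x₁.1 = -1 := by simpa using congrArg Subtype.val hx₁
    have hB' : x₂.1 * x₂.1 = -1 := by simpa using congrArg Subtype.val hx₂
    have hBA' : x₂.1 * x₁.1 = -(x₁.1 * x₂.1) := by simpa using congrArg Subtype.val hanti
    have hX' : x.1 * x.1 = -1 := by simpa using congrArg Subtype.val hx
    obtain ⟨l, hl⟩ := anti_cases h2 hA' hB' ((Classical.sl2_mul_self_eq_neg_one_iff _).1 hx₁)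
      ((Classical.sl2_mul_self_eq_neg_one_iff _).1 hx₂) hBA' (fst_sign (V_comm hVL hV hg haV))
      (fst_sign (V_comm hVL hV hg hbV))
    have hdx := x.2
    have hsign : ∀ u : SL(2, F), u * u = -1 → x.1 = l • u.1 → x = u ∨ x = -u := by
      intro u hu hxu
      have hl2 : l * l = 1 := by
        rw [hxu, smul_mul_assoc, mul_smul_comm, smul_smul, show u.1 * u.1 = -1 by simpa using congrArg Subtype.val hu] at hX'
        have := congrFun (congrFun hX' 0) 0
        simpa using this
      rcases mul_self_eq_one_iff.1 hl2 with rfl | rfl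
      · exact Or.inl (Subtype.ext (by rw [hxu, one_smul]))
      · exact Or.inr (Subtype.ext (by rw [hxu, neg_one_smul, Matrix.SpecialLinearGroup.coe_neg]))
    rcases hl with hl | hl | hl | hl
    · exfalso
      rw [hl, Matrix.det_smul, Matrix.det_one, Fintype.card_fin, mul_one] at hdx
      rw [hl, smul_mul_assoc, mul_smul_comm, smul_smul, one_mul, ← pow_two, hdx, one_smul] at hX'
      have := congrFun (congrFun hX' 0) 0
      simp at this
      exact h2 (by linear_combination this)
    · rcases fst_eq hVL hV h2 haV hg hx₁ (hsign x₁ hx₁ hl) with e | e <;> simp [e, a]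
    · rcases fst_eq hVL hV h2 hbV hg hx₂ (hsign x₂ hx₂ hl) with e | e <;> simp [e, b]
    · rcases fst_eq hVL hV h2 (hab ▸ mul_mem haV hbV) hg hx3
        (hsign (x₁ * x₂) hx3 (by rw [hl, Matrix.SpecialLinearGroup.coe_mul])) with e | e <;>
        simp [e, hab]
  · refine (Finset.card_insert_le _ _).trans ?_
    refine (Nat.succ_le_succ (Finset.card_insert_le _ _)).trans ?_
    refine (Nat.succ_le_succ (Nat.succ_le_succ (Finset.card_insert_le _ _))).trans ?_
    refine (Nat.succ_le_succ (Nat.succ_le_succ (Nat.succ_le_succ (Finset.card_insert_le _ _)))).trans ?_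
    have := Finset.card_le_four (a := b) (b := b * z) (c := a * b) (d := a * b * z)
    omega

omit V hVL hV

theorem dconj_D (t : Fˣ) (g : SL(2, F)) :
    !![(1 : F), 0; 0, (t : F)] * g.1 = (dconj t g).1 * !![(1 : F), 0; 0, (t : F)] := by
  rw [dconj_val]
  ext i j
  fin_cases i <;> fin_cases j <;> simp [Matrix.mul_apply, Fin.sum_univ_two, mul_comm]

/-- The elementary abelian two-subgroups have at most eight elements. -/
theorem two_rank (hF : Odd (Fintype.card F)) (E : Subgroup (GG F)) (hE : ∀ g ∈ E, g * g = 1) :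
    Nat.card E ≤ 8 := by
  classical
  have h2 := odd_char hF
  by_cases hbot : E = ⊥
  · rw [hbot, Subgroup.card_bot]; norm_num
  obtain ⟨⟨e, heE⟩, he⟩ := Subgroup.ne_bot_iff_exists_ne_one.1 hbot
  have he1 : e ≠ 1 := fun h => he (Subtype.ext h)
  obtain ⟨c, hc⟩ := isConj_iff.1 (isConj_z hF (hE e heE) he1).symm
  set E' := E.map (MulAut.conj c).toMonoidHom with hE'
  have hcard : Nat.card E' = Nat.card E := Subgroup.card_map_of_injective (MulAut.conj c).injective
  have hE'2 : ∀ g ∈ E', g * g = 1 := by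
    rintro g ⟨u, hu, rfl⟩
    rw [← map_mul, hE u hu, map_one]
  have hzE : z ∈ E' := ⟨e, heE, hc⟩
  have hEK : E' ≤ K := by
    intro g hg
    rw [← centralizer_z h2, Subgroup.mem_centralizer_singleton_iff]
    have h1 := hE'2 _ (mul_mem hg hzE)
    have hi : g⁻¹ = g := inv_eq_of_mul_eq_one_right (hE'2 _ hg)
    have hz : z⁻¹ = (z : GG F) := inv_eq_of_mul_eq_one_right (hE'2 _ hzE)
    rw [← inv_eq_of_mul_eq_one_right h1, mul_inv_rev, hi, hz]
  set V := E' ⊓ L
  obtain ⟨hV8, hab⟩ := card_V (V := V) inf_le_right (fun g hg => hE'2 g hg.1) h2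
  by_contra hgt
  obtain ⟨g, hgE, hgL⟩ : ∃ g ∈ E', g ∉ (L : Subgroup (GG F)) := by
    by_contra h
    push Not at h
    have : V = E' := inf_eq_left.2 h
    rw [this] at hV8
    omega
  have hidx : (L.subgroupOf (K : Subgroup (GG F))).index = 2 := relIndex_L_K h2
  have h2V : Nat.card E' ≤ 2 * Nat.card V := by
    have hmul : ∀ u ∈ E', u ∉ (L : Subgroup (GG F)) → u * g ∈ (L : Subgroup (GG F)) := fun u hu hun =>
      (Subgroup.mul_mem_iff_of_index_two hidx (a := ⟨u, hEK hu⟩) (b := ⟨g, hEK hgE⟩)).2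
        (iff_of_false hun hgL)
    let f : E' → V × Bool := fun u => if h : (u : GG F) ∈ (L : Subgroup (GG F)) then (⟨u, u.2, h⟩, true)
      else (⟨u * g, mul_mem u.2 hgE, hmul u u.2 h⟩, false)
    have hf : Function.Injective f := by
      intro u v huv
      by_cases hu : (u : GG F) ∈ (L : Subgroup (GG F)) <;> by_cases hv : (v : GG F) ∈ (L : Subgroup (GG F)) <;>
        simp only [f, hu, hv, dif_pos, dif_neg, not_false_eq_true, Prod.mk.injEq, Subtype.mk.injEq, and_true,
          Bool.false_eq_true, Bool.true_eq_false, and_false, mul_right_cancel_iff] at huv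
      all_goals first
        | exact Subtype.ext (congrArg (fun w : V => (w : GG F)) huv :)
        | exact Subtype.ext (mul_right_cancel (congrArg (fun w : V => (w : GG F)) huv :))
    refine (Nat.card_le_card_of_injective f hf).trans ?_
    rw [Nat.card_prod, Nat.card_eq_fintype_card (α := Bool), Fintype.card_bool, mul_comm]
  obtain ⟨x₁, y₁, x₂, y₂, haV, hbV, hx₁, hx₂, hanti⟩ := hab (by omega)
  obtain ⟨x, y, t, rfl⟩ := mem_K.1 (hEK hgE)
  have ht : ¬ IsSquare t := fun h => hgL (mul_mem (mem_L.2 ⟨x, y, rfl⟩) (tor_mem_L.2 h))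
  set D : Matrix (Fin 2) (Fin 2) F := !![(1 : F), 0; 0, (t : F)]
  have hsgn : ∀ u v : SL(2, F), fa u * fb v ∈ V →
      (x.1 * D) * u.1 = u.1 * (x.1 * D) ∨ (x.1 * D) * u.1 = -(u.1 * (x.1 * D)) := by
    intro u v huv
    have h1 := hE'2 _ (mul_mem hgE huv.1)
    have hg' := hE'2 _ hgE
    have hu' := hE'2 _ huv.1
    have hcomm : fa x * fb y * tor t * (fa u * fb v) = fa u * fb v * (fa x * fb y * tor t) := by
      rw [← inv_eq_of_mul_eq_one_right h1, mul_inv_rev, inv_eq_of_mul_eq_one_right hg',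
        inv_eq_of_mul_eq_one_right hu']
    have hconj : tor t * (fa u * fb v) = fa (dconj t u) * fb (dconj t⁻¹ v) * tor t := by
      rw [← tor_fa, ← tor_fb]; group
    rw [mul_assoc (fa x * fb y), hconj, ← mul_assoc (fa x * fb y), ← mul_assoc (fa u * fb v),
      mul_right_cancel_iff, pr_mul, pr_mul] at hcomm
    have hD : x.1 * D * u.1 = x.1 * (dconj t u).1 * D := by
      rw [mul_assoc, dconj_D, ← mul_assoc]
    rw [hD]
    rcases pr_eq_pr hcomm with e | e
    · refine Or.inl ?_
      have := congrArg Subtype.val e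
      simp only [Matrix.SpecialLinearGroup.coe_mul] at this
      rw [this, mul_assoc]
    · refine Or.inr ?_
      have := congrArg Subtype.val e
      simp only [Matrix.SpecialLinearGroup.coe_mul, Matrix.SpecialLinearGroup.coe_neg] at this
      rw [this, neg_mul, mul_assoc]
  obtain ⟨l, hl⟩ := anti_cases h2 (by simpa using congrArg Subtype.val hx₁)
    (by simpa using congrArg Subtype.val hx₂) ((Classical.sl2_mul_self_eq_neg_one_iff _).1 hx₁)
    ((Classical.sl2_mul_self_eq_neg_one_iff _).1 hx₂) (by simpa using congrArg Subtype.val hanti)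
    (hsgn _ _ haV) (hsgn _ _ hbV)
  have hdet : (x.1 * D).det = (t : F) := by
    rw [Matrix.det_mul, x.2, Matrix.det_fin_two_of]; ring
  have hl2 : l * l = (t : F) := by
    rcases hl with hl | hl | hl | hl <;> rw [hl, Matrix.det_smul, Fintype.card_fin] at hdet <;>
      simp [x₁.2, x₂.2, pow_two] at hdet <;> exact hdet
  have hl0 : l ≠ 0 := fun h => t.ne_zero (by rw [← hl2, h, mul_zero])
  exact ht ⟨Units.mk0 l hl0, Units.ext hl2.symm⟩

end CfsgLib.Chevalley.G2AltSection
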